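import Mathlib

/-!
Packed tables and tests for the action of the group of type G2 over four elements on 416 sets of
long root vectors.
-/

set_option autoImplicit false

namespace CfsgLib.G2J2

/-- the entry of width `w` in place `i` -/
def fld (w a i : ℕ) : ℕ := (a >>> (w * i)) % 2 ^ w

/-- a test holds below a bound -/
def allB : ℕ → (ℕ → Bool) → Bool
  | 0, _ => true
  | n + 1, f => f n && allB n f

theorem of_allB : ∀ {n : ℕ} {f : ℕ → Bool}, allB n f = true → ∀ i < n, f i = true
  | 0, _, _, i, hi => absurd hi (Nat.not_lt_zero i)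
  | n + 1, f, h, i, hi => by
    simp only [allB, Bool.and_eq_true] at h
    rcases Nat.lt_succ_iff_lt_or_eq.1 hi with hi | rfl
    exacts [of_allB h.2 i hi, h.1]

/-- the bit mask of the values of a function below a bound -/
def maskOf : ℕ → (ℕ → ℕ) → ℕ
  | 0, _ => 0
  | n + 1, f => 1 <<< f n ||| maskOf n f

theorem testBit_maskOf : ∀ (n : ℕ) (f : ℕ → ℕ) (q : ℕ),
    (maskOf n f).testBit q = true ↔ ∃ k < n, f k = q
  | 0, f, q => by simp [maskOf]
  | n + 1, f, q => by
    rw [maskOf, Nat.testBit_or, Bool.or_eq_true, testBit_maskOf n f q, Nat.shiftLeft_eq, one_mul,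
      Nat.testBit_two_pow]
    constructor
    · rintro (h | ⟨k, hk, e⟩)
      · exact ⟨n, n.lt_succ_self, by simpa using h⟩
      · exact ⟨k, hk.trans n.lt_succ_self, e⟩
    · rintro ⟨k, hk, e⟩
      rcases Nat.lt_succ_iff_lt_or_eq.1 hk with hk | rfl
      · exact Or.inr ⟨k, hk, e⟩
      · exact Or.inl (by simpa using e)

/-- the number of places where a test holds below a bound -/
def countB : ℕ → (ℕ → Bool) → ℕ
  | 0, _ => 0
  | n + 1, f => (if f n then 1 else 0) + countB n f

theorem countB_eq : ∀ (n : ℕ) (f : ℕ → Bool),
    countB n f = ((Finset.range n).filter fun i => f i = true).card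
  | 0, f => by simp [countB]
  | n + 1, f => by
    rw [countB, countB_eq n f, Finset.card_filter, Finset.card_filter, Finset.sum_range_succ]
    omega

/-- the folded exclusive or of a list -/
def xorL (l : List ℕ) : ℕ := l.foldr (fun a b => a ^^^ b) 0

/-- evaluation of a word of table indices at a point -/
def evW (w : ℕ) (T : List ℕ) (l : List ℕ) (i : ℕ) : ℕ :=
  l.foldr (fun g x => fld w (T.getD g 0) x) i

/-- a reachability certificate: every entry is a root (generator index out of range) or the image of an
earlier entry under a generator -/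
def certOK (ngen : ℕ) (act : ℕ → ℕ → ℕ) (roots : List ℕ) : List ℕ → List (ℕ × ℕ × ℕ) → Bool
  | _, [] => true
  | done, (b, p, g) :: rest =>
    (if g < ngen then decide (p < done.length) && Nat.beq (act g (done.getD p 0)) b
      else roots.contains b) && certOK ngen act roots (done ++ [b]) rest

/-- the points of a certificate satisfy every predicate that holds at the roots and is invariant -/
theorem of_certOK {ngen : ℕ} {act : ℕ → ℕ → ℕ} {roots : List ℕ} (Q : ℕ → Prop)
    (hroot : ∀ r ∈ roots, Q r) (hstep : ∀ g < ngen, ∀ x, Q x → Q (act g x)) :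
    ∀ (rest : List (ℕ × ℕ × ℕ)) (done : List ℕ), certOK ngen act roots done rest = true →
      (∀ x ∈ done, Q x) → ∀ e ∈ rest, Q e.1
  | [], _, _, _, e, he => absurd he List.not_mem_nil
  | (b, p, g) :: rest, done, h, hd, e, he => by
    simp only [certOK, Bool.and_eq_true] at h
    have hb : Q b := by
      have h1 := h.1
      split_ifs at h1 with hg
      · simp only [Bool.and_eq_true, decide_eq_true_eq] at h1
        obtain ⟨hp, e1⟩ := h1
        have := hd _ (List.getElem_mem hp)
        rw [← Nat.eq_of_beq_eq_true e1, List.getD_eq_getElem done 0 hp]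
        exact hstep g hg _ this
      · exact hroot b (by simpa using h1)
    rcases List.mem_cons.1 he with rfl | he
    · exact hb
    · exact of_certOK Q hroot hstep rest _ h.2 (fun x hx => by
        rcases List.mem_append.1 hx with hx | hx
        exacts [hd x hx, by rw [List.mem_singleton.1 hx]; exact hb]) e he

/-- the product of two scalar codes -/
def mc (a b : ℕ) : ℕ := fld 2 (([0, 228, 120, 156] : List ℕ).getD a 0) b

/-- a column table applied to a vector of codes -/
def mulv (C : List (List ℕ)) (v : ℕ) : ℕ :=
  (List.range 14).foldr (fun c r => (C.getD c []).getD (fld 2 v c) 0 ^^^ r) 0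

end CfsgLib.G2J2
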