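import Cfsg.Agent.Lib.Chev.G2J2.ChkSet
import Cfsg.Agent.Lib.Spor.J2.Perm315
import Cfsg.Agent.Lib.Spor.J2.GenData

/-!
Tests on four elements stabilising the base set, and on the orbit certificates.
-/

set_option autoImplicit false
set_option maxRecDepth 100000

namespace CfsgLib.G2J2

open Data

/-- the line in a place -/
def lget (j : ℕ) : ℕ := sElem z0 j

/-- the image of a set under a stabilising element -/
def hImg (k i : ℕ) : ℕ := fld 9 (hTab.getD k 0) i

/-- the permutation of the lines attached to a stabilising element -/
def linePerm (k j : ℕ) : ℕ :=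
  CfsgLib.J2.getP (([CfsgLib.J2.genPerm0, CfsgLib.J2.genPerm1, CfsgLib.J2.genPerm2,
    CfsgLib.J2.genPerm3] : List ℕ).getD k 0) j

theorem hWord_small : hWord.all (fun w => w.all fun g => Nat.blt g 8) = true := by decide +kernel

theorem h_sets : allB 4 (fun k => Nat.beq (hImg k z0) z0 &&
    allB 416 fun i => Nat.beq (evW 9 setTab (hWord.getD k []) i) (hImg k i)) = true := by
  decide +kernel

theorem h_lines : allB 4 (fun k => allB 315 fun j =>
    Nat.beq (evW 12 pntTab (hWord.getD k []) (lget j)) (lget (linePerm k j)) &&
      Nat.blt (linePerm k j) 315) = true := by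
  decide +kernel

theorem line_distinct : allB 315 (fun j => allB j fun i => !Nat.beq (lget i) (lget j)) = true := by
  decide +kernel

theorem span_check : allB 14 (fun c => allB 14 fun i => Nat.beq
    (xorL ((spanTab.getD c []).map fun e => mc e.2 (fld 2 (vget (lget e.1)) i)))
    (if Nat.beq i c then 1 else 0)) = true := by
  decide +kernel

theorem span_small : spanTab.all (fun l => l.all fun e => Nat.blt e.1 315 && Nat.blt e.2 4) = true := by
  decide +kernel

theorem g_cert : certOK 8 sImg [z0] [] gCert = true ∧
    allB 416 (fun i => (gCert.map Prod.fst).contains i) = true := by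
  decide +kernel

/-- the orbit label of a set -/
def hl (i : ℕ) : ℕ := fld 4 hLab i

theorem h_cert : certOK 4 hImg hRoot [] hCert = true ∧
    allB 416 (fun i => (hCert.map Prod.fst).contains i) = true := by
  decide +kernel

theorem h_labels : allB 416 (fun i => Nat.blt (hl i) 3 && allB 4 fun k => Nat.beq (hl (hImg k i)) (hl i)) = true ∧
    allB 3 (fun l => Nat.beq (hl (hRoot.getD l 0)) l) = true ∧ hl z0 = 0 := by
  decide +kernel

theorem h_count : allB (2 ^ 3) (fun b => !Nat.testBit b 0 ||
    (let c := countB 416 fun i => Nat.testBit b (hl i)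
     !Nat.beq (416 % c) 0 || Nat.beq c 1 || Nat.beq c 416)) = true := by
  decide +kernel

end CfsgLib.G2J2
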