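import Cfsg.Agent.Lib.Chev.G2J2.Basic
import Cfsg.Agent.Lib.Chev.G2J2.PointData

/-!
The generators permute the 4095 root vectors as tabulated.
-/

set_option autoImplicit false
set_option maxRecDepth 100000

namespace CfsgLib.G2J2

/-- the root vector in a place -/
def vget (k : ℕ) : ℕ := fld 28 Data.vecTab k

/-- the image of a place under a generator -/
def pImg (g k : ℕ) : ℕ := fld 12 (Data.pntTab.getD g 0) k

theorem point_check : allB 8 (fun g => allB 4095 fun k =>
    Nat.beq (mulv (Data.colTab.getD g []) (vget k)) (vget (pImg g k)) && Nat.blt (pImg g k) 4095) = true := by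
  decide +kernel

theorem point_increasing : allB 4094 (fun k => Nat.blt (vget k) (vget (k + 1))) = true := by
  decide +kernel

end CfsgLib.G2J2
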