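import Cfsg.Agent.Lib.Chev.G2J2.ChkPoint
import Cfsg.Agent.Lib.Chev.G2J2.SetData
import Cfsg.Agent.Lib.Chev.G2J2.ActData

/-!
The generators permute the 416 sets of root vectors as tabulated.
-/

set_option autoImplicit false
set_option maxRecDepth 100000

namespace CfsgLib.G2J2

/-- the mask of a set -/
def sMask (i : ℕ) : ℕ := Data.maskTab.getD i 0

/-- the element of a set in a place -/
def sElem (i k : ℕ) : ℕ := fld 12 (Data.elemTab.getD i 0) k

/-- the image of a set under a generator -/
def sImg (g i : ℕ) : ℕ := fld 9 (Data.setTab.getD g 0) i

/-- the test of one generator -/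
def setTest (g : ℕ) : Bool := allB 416 fun i =>
    Nat.beq (maskOf 315 fun k => pImg g (sElem i k)) (sMask (sImg g i)) && Nat.blt (sImg g i) 416

theorem set_check0 : setTest 0 = true := by decide +kernel

theorem set_check1 : setTest 1 = true := by decide +kernel

theorem set_check2 : setTest 2 = true := by decide +kernel

theorem set_check3 : setTest 3 = true := by decide +kernel

theorem set_check4 : setTest 4 = true := by decide +kernel

theorem set_check5 : setTest 5 = true := by decide +kernel

theorem set_check6 : setTest 6 = true := by decide +kernel

theorem set_check7 : setTest 7 = true := by decide +kernel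

theorem set_check : allB 8 (fun g => allB 416 fun i =>
    Nat.beq (maskOf 315 fun k => pImg g (sElem i k)) (sMask (sImg g i)) && Nat.blt (sImg g i) 416) = true := by
  show allB 8 setTest = true
  simp only [allB, set_check0, set_check1, set_check2, set_check3, set_check4, set_check5, set_check6, set_check7, Bool.and_self]

theorem set_self : allB 416 (fun i => Nat.beq (maskOf 315 (sElem i)) (sMask i) &&
    allB 315 fun k => Nat.blt (sElem i k) 4095) = true := by
  decide +kernel

theorem set_increasing : allB 415 (fun i => Nat.blt (sMask i) (sMask (i + 1))) = true := by
  decide +kernel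

end CfsgLib.G2J2
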