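import Cfsg.Agent.Lib.Chev.G2J2.ChkAct

/-!
Tests for the two non-trivial orbits of the stabiliser of the base set.
-/

set_option autoImplicit false
set_option maxRecDepth 100000

namespace CfsgLib.G2J2

open Data

/-- the orbit tests: a point fixed by some stabilising elements whose orbits within the orbit of the point
have sizes of which no proper union through the point divides the size of the orbit -/
def subOK (l a : ℕ) (ws : List (List ℕ)) (tab : ℕ) (roots : List ℕ) (cert : List (ℕ × ℕ × ℕ)) : Bool :=
  let lab := fun i => fld 4 tab i
  let N := countB 416 fun i => Nat.beq (hl i) l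
  Nat.blt a 416 && Nat.beq (hl a) l && Nat.beq (lab a) 0 && Nat.blt 1 N
    && ws.all (fun w => w.all (fun k => Nat.blt k 4) && Nat.beq (evW 9 hTab w a) a
      && allB 416 fun i => Nat.beq (lab (evW 9 hTab w i)) (lab i))
    && allB 416 (fun i => !Nat.beq (hl i) l || Nat.blt (lab i) roots.length &&
      (cert.map Prod.fst).contains i)
    && allB roots.length (fun m => Nat.beq (lab (roots.getD m 0)) m && Nat.blt (roots.getD m 0) 416)
    && certOK ws.length (fun g x => evW 9 hTab (ws.getD g []) x) roots [] cert
    && allB (2 ^ roots.length) (fun b => !Nat.testBit b 0 ||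
      (let c := countB 416 fun i => Nat.beq (hl i) l && Nat.testBit b (lab i)
       !Nat.beq (N % c) 0 || Nat.beq c 1 || Nat.beq c N))

theorem sub_check1 : subOK 1 (uRoot1.getD 0 0) uWord1 uLab1 uRoot1 uCert1 = true := by decide +kernel

theorem sub_check2 : subOK 2 (uRoot2.getD 0 0) uWord2 uLab2 uRoot2 uCert2 = true := by decide +kernel

end CfsgLib.G2J2
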