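import Cfsg.Agent.Lib.Chev.G2J2.Basic
import Cfsg.Agent.Lib.Chev.G2J2.PointData
import Cfsg.Prelude.Def_ChevG2

/-!
Root elements over four elements in scalar codes.
-/

set_option autoImplicit false

namespace CfsgLib.G2J2

open Cfsg.Lie

/-- the position of a coordinate -/
def cidx : chevG2.Idx → ℕ
  | Sum.inl i => i.val
  | Sum.inr r => 2 + r.val

/-- the code of an integer -/
def ic (n : ℤ) : ℕ := n.natAbs % 2

/-- the code of a power -/
def pc (t : ℕ) : ℕ → ℕ
  | 0 => 1
  | k + 1 => mc (pc t k) t

/-- the entries of a root element, as codes -/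
def xc (r : Fin chevG2.nroots) (t : ℕ) (row col : chevG2.Idx) : ℕ :=
  match col with
  | Sum.inl i =>
    (match row with
     | Sum.inl i' => if i' = i then 1 else 0
     | Sum.inr u => if u = r then mc (ic ((chevG2.cartanSR.getD i.val #[]).getD r.val 0)) t else 0)
  | Sum.inr s =>
    if s = r then (match row with | Sum.inr u => if u = r then 1 else 0 | Sum.inl _ => 0)
    else if s.val = chevG2.negIdx.getD r.val 0 then
      (match row with
       | Sum.inl i => mc (ic ((chevG2.coroot.getD r.val #[]).getD i.val 0)) t
       | Sum.inr u => if u = s then 1 else if u = r then mc t t else 0)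
    else
      (match row with
       | Sum.inl _ => 0
       | Sum.inr u => (if u = s then 1 else 0) ^^^
           xorL ((chevG2.chainCoeff r.val s.val u.val).map fun km => mc (ic km.2) (pc t km.1)))

/-- the root of a generator -/
def genRoot (g : Fin 8) : Fin chevG2.nroots :=
  ⟨(Data.genTab.getD g.val (0, 0)).1 % 12, Nat.mod_lt _ (by norm_num)⟩

/-- the scalar code of a generator -/
def genCode (g : Fin 8) : ℕ := (Data.genTab.getD g.val (0, 0)).2 % 4

/-- the column table of a generator is that of its matrix -/
theorem col_check : ∀ (g : Fin 8) (row col : chevG2.Idx) (a : Fin 4),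
    Nat.beq (fld 2 (((Data.colTab.getD g.val []).getD (cidx col) []).getD a.val 0) (cidx row))
      (mc (xc (genRoot g) (genCode g) row col) a.val) = true := by
  decide +kernel

end CfsgLib.G2J2
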