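import Mathlib

/-!
Actions induced on an invariant finite family, and maximality of a point stabiliser read off from the
orbits of some of its elements.
-/

set_option autoImplicit false

namespace CfsgLib.G2J2

variable {G A ι : Type*} [Group G]

/-- a finite family invariant under generators is invariant under the group -/
theorem exists_image [Finite ι] (φ : G →* Equiv.Perm A) {f : ι → A} (hf : Function.Injective f)
    {S : Set G} (hS : Subgroup.closure S = ⊤) (h : ∀ s ∈ S, ∀ i, ∃ j, φ s (f i) = f j) :
    ∀ g i, ∃ j, φ g (f i) = f j := by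
  intro g
  have hg : g ∈ Subgroup.closure S := by rw [hS]; trivial
  induction hg using Subgroup.closure_induction with
  | mem s hs => exact h s hs
  | one => exact fun i => ⟨i, by simp⟩
  | mul a b _ _ ha hb =>
    intro i
    obtain ⟨j, hj⟩ := hb i
    obtain ⟨k, hk⟩ := ha j
    exact ⟨k, by rw [map_mul, Equiv.Perm.mul_apply, hj, hk]⟩
  | inv a _ ha =>
    choose p hp using ha
    have hpi : Function.Injective p := fun x y e =>
      hf ((φ a).injective (by rw [hp x, hp y, e]))
    intro i
    obtain ⟨j, rfl⟩ := Finite.surjective_of_injective hpi i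
    exact ⟨j, by rw [← hp j, map_inv, Equiv.Perm.inv_eq_iff_eq]⟩

variable (φ : G →* Equiv.Perm A) {f : ι → A} (hf : Function.Injective f)
  (h : ∀ g i, ∃ j, φ g (f i) = f j)

/-- the action on an invariant family -/
noncomputable def indHom : G →* Equiv.Perm ι :=
  (Equiv.Perm.equivUnitsEnd (α := ι)).symm.toMonoidHom.comp
    (MonoidHom.toHomUnits
      ({ toFun := fun g => ((fun i => (h g i).choose) : Function.End ι)
         map_one' := funext fun i => hf (by
          rw [← (h 1 i).choose_spec, map_one, Equiv.Perm.one_apply]; rfl)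
         map_mul' := fun a b => funext fun i => hf (by
          rw [← (h (a * b) i).choose_spec, map_mul, Equiv.Perm.mul_apply, (h b i).choose_spec,
            (h a (h b i).choose).choose_spec]; rfl) } : G →* Function.End ι))

theorem indHom_spec (g : G) (i : ι) : φ g (f i) = f (indHom φ hf h g i) := (h g i).choose_spec

theorem indHom_eq {g : G} {i j : ι} (e : φ g (f i) = f j) : indHom φ hf h g i = j :=
  hf ((indHom_spec φ hf h g i).symm.trans e)

omit φ hf h

/-- the stabiliser of a point under a homomorphism to permutations -/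
def stab {α : Type*} (σ : G →* Equiv.Perm α) (a : α) : Subgroup G where
  carrier := {g | σ g a = a}
  one_mem' := by simp
  mul_mem' := fun {x y} hx hy => by
    simp only [Set.mem_setOf_eq, map_mul, Equiv.Perm.mul_apply] at *
    rw [hy, hx]
  inv_mem' := fun {x} hx => by
    simp only [Set.mem_setOf_eq, map_inv] at *
    exact Equiv.Perm.inv_eq_iff_eq.2 hx.symm

theorem mem_stab {α : Type*} {σ : G →* Equiv.Perm α} {a : α} {g : G} : g ∈ stab σ a ↔ σ g a = a :=
  Iff.rfl

/-- the size of an orbit is the relative index of the stabiliser -/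
theorem relIndex_stab {α : Type*} (σ : G →* Equiv.Perm α) (a : α) (K : Subgroup G) :
    (stab σ a).relIndex K = Nat.card {i : α // ∃ k ∈ K, σ k a = i} := by
  letI : MulAction ↥K α := MulAction.compHom α (σ.comp K.subtype)
  have e1 : (stab σ a).subgroupOf K = MulAction.stabilizer (↥K) a := by ext k; exact Iff.rfl
  rw [Subgroup.relIndex, e1, MulAction.index_stabilizer, ← Nat.card_coe_set_eq]
  refine Nat.card_congr (Equiv.subtypeEquivRight fun i => ?_)
  exact ⟨fun ⟨k, hk⟩ => ⟨k, k.2, hk⟩, fun ⟨k, hk, e⟩ => ⟨⟨k, hk⟩, e⟩⟩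

theorem index_stab {α : Type*} (σ : G →* Equiv.Perm α) (a : α) :
    (stab σ a).index = Nat.card {i : α // ∃ g, σ g a = i} := by
  rw [← Subgroup.relIndex_top_right, relIndex_stab]
  exact Nat.card_congr (Equiv.subtypeEquivRight fun i => by simp)

theorem exists_bits (m : ℕ) (P : ℕ → Prop) : ∃ b < 2 ^ m, ∀ l < m, (b.testBit l = true ↔ P l) := by
  classical
  refine ⟨∑ l ∈ (Finset.range m).filter P, 2 ^ l, ?_, fun l hl => ?_⟩
  · exact Nat.geomSum_lt (le_refl 2) fun k hk => Finset.mem_range.1 (Finset.mem_filter.1 hk).1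
  · have := Finset.toFinset_bitIndices_sum_two_pow ((Finset.range m).filter P)
    rw [Finset.ext_iff] at this
    have hl' := this l
    rw [List.mem_toFinset, Nat.mem_bitIndices] at hl'
    simp [hl', hl]

/-- A point stabiliser is maximal if no proper union, through the point, of blocks of a family of
classes joined by stabilising elements has size dividing the orbit length. -/
theorem isCoatom_stab [Finite G] {α : Type*} [Finite α] (σ : G →* Equiv.Perm α) (a : α) (lab : α → ℕ)
    (rep : ℕ → α) (m : ℕ) (hlab : ∀ i, (∃ g, σ g a = i) → lab i < m)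
    (h1 : 1 < Nat.card {i : α // ∃ g, σ g a = i})
    (hconn : ∀ T : Set α, (∀ u ∈ stab σ a, ∀ x, σ u x ∈ T ↔ x ∈ T) →
      ∀ i, (∃ g, σ g a = i) → (i ∈ T ↔ rep (lab i) ∈ T))
    (hcount : ∀ b < 2 ^ m, b.testBit (lab a) = true →
      Nat.card {i : α // (∃ g, σ g a = i) ∧ b.testBit (lab i) = true} ∣
        Nat.card {i : α // ∃ g, σ g a = i} →
      Nat.card {i : α // (∃ g, σ g a = i) ∧ b.testBit (lab i) = true} = 1 ∨
        Nat.card {i : α // (∃ g, σ g a = i) ∧ b.testBit (lab i) = true} =
          Nat.card {i : α // ∃ g, σ g a = i}) :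
    IsCoatom (stab σ a) := by
  constructor
  · intro e
    rw [← index_stab, e, Subgroup.index_top] at h1
    exact lt_irrefl _ h1
  · intro K hK
    set T : Set α := {i | ∃ k ∈ K, σ k a = i}
    have hT : ∀ u ∈ stab σ a, ∀ x, σ u x ∈ T ↔ x ∈ T := by
      intro u hu x
      constructor
      · rintro ⟨k, hk, e⟩
        exact ⟨u⁻¹ * k, mul_mem (inv_mem (hK.le hu)) hk, by
          rw [map_mul, Equiv.Perm.mul_apply, e, map_inv, Equiv.Perm.inv_eq_iff_eq]⟩
      · rintro ⟨k, hk, e⟩
        exact ⟨u * k, mul_mem (hK.le hu) hk, by rw [map_mul, Equiv.Perm.mul_apply, e]⟩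
    obtain ⟨b, hb, hbT⟩ := exists_bits m fun l => rep l ∈ T
    have key : ∀ i, i ∈ T ↔ (∃ g, σ g a = i) ∧ b.testBit (lab i) = true := by
      intro i
      constructor
      · intro hi
        have ho : ∃ g, σ g a = i := hi.imp fun k h => h.2
        exact ⟨ho, (hbT _ (hlab i ho)).2 ((hconn T hT i ho).1 hi)⟩
      · rintro ⟨ho, hi⟩
        exact (hconn T hT i ho).2 ((hbT _ (hlab i ho)).1 hi)
    have haT : a ∈ T := ⟨1, one_mem K, by simp⟩
    have hrel : (stab σ a).relIndex K =
        Nat.card {i : α // (∃ g, σ g a = i) ∧ b.testBit (lab i) = true} :=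
      (relIndex_stab σ a K).trans (Nat.card_congr (Equiv.subtypeEquivRight key))
    have hmul : (stab σ a).relIndex K * K.index = (stab σ a).index := Subgroup.relIndex_mul_index hK.le
    have hdvd : (stab σ a).relIndex K ∣ (stab σ a).index := Dvd.intro _ hmul
    rw [hrel, index_stab] at hdvd
    rcases hcount b hb ((key a).1 haT).2 hdvd with h | h
    · rw [← hrel] at h
      exact absurd (Subgroup.relIndex_eq_one.1 h) (not_le_of_gt hK)
    · rw [← hrel, ← index_stab] at h
      rw [h] at hmul
      have hne : (stab σ a).index ≠ 0 := by rw [index_stab]; omega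
      exact Subgroup.index_eq_one.1 ((mul_eq_left₀ hne).1 hmul)

end CfsgLib.G2J2
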