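import Cfsg.Agent.Lib.Chev.G2J2.Stabilizer
import Cfsg.Agent.Lib.Chev.G2J2.ChkSub

/-!
The action of the group of type G2 over four elements on the 416 cosets of the Hall-Janko group is
extremely primitive.
-/

set_option autoImplicit false

namespace CfsgLib.G2J2

open Cfsg.Lie

variable {F : Type*} [Field F] [Fintype F] [hq : Four F]

variable (F) in
/-- the action of the stabiliser on the sets -/
noncomputable def orbHom : ↥(HH F) →* Equiv.Perm (Fin 416) := setHom.comp (HH F).subtype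

theorem orbHom_hG (k : Fin 4) (i : Fin 416) : (orbHom F (hG k) i).val = hImg k i := by
  have h := of_allB h_sets k.val k.isLt
  simp only [Bool.and_eq_true] at h
  show (setHom (gW (F := F) (Data.hWord.getD k.val [])) i).val = _
  rw [setHom_gW _ (hWord_mem k), Nat.eq_of_beq_eq_true (of_allB h.2 i.val i.isLt)]

theorem card_countB (p : ℕ → Bool) (P : Fin 416 → Prop) (h : ∀ i : Fin 416, P i ↔ p i.val = true) :
    Nat.card {i : Fin 416 // P i} = countB 416 p := by
  classical
  rw [Nat.card_eq_fintype_card, Fintype.card_subtype, countB_eq]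
  refine (Finset.card_map Fin.valEmbedding).symm.trans (congrArg Finset.card ?_)
  ext n
  simp only [Finset.mem_map, Finset.mem_filter, Finset.mem_univ, true_and, Fin.valEmbedding_apply,
    Finset.mem_range]
  exact ⟨fun ⟨i, hi, e⟩ => e ▸ ⟨i.isLt, (h i).1 hi⟩, fun ⟨hn, hp⟩ => ⟨⟨n, hn⟩, (h ⟨n, hn⟩).2 hp, rfl⟩⟩

theorem hl_lt (i : Fin 416) : hl i.val < 3 := by
  have h := of_allB h_labels.1 i.val i.isLt
  simp only [Bool.and_eq_true, Nat.blt_eq] at h
  exact h.1

theorem hl_hImg (k : Fin 4) (i : Fin 416) : hl (hImg k i) = hl i.val := by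
  have h := of_allB h_labels.1 i.val i.isLt
  simp only [Bool.and_eq_true] at h
  exact Nat.eq_of_beq_eq_true (of_allB h.2 k.val k.isLt)

theorem hl_orbHom (g : ↥(HH F)) (i : Fin 416) : hl (orbHom F g i).val = hl i.val := by
  have hg : g ∈ Subgroup.closure (Set.range (hG (F := F))) := by rw [hG_top F]; trivial
  induction hg using Subgroup.closure_induction generalizing i with
  | mem y hy => obtain ⟨k, rfl⟩ := hy; rw [orbHom_hG, hl_hImg]
  | one => simp
  | mul a b _ _ ha hb => rw [map_mul, Equiv.Perm.mul_apply, ha, hb]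
  | inv a _ ha =>
    have := ha ((orbHom F a)⁻¹ i)
    rw [← Equiv.Perm.mul_apply, mul_inv_cancel, Equiv.Perm.one_apply] at this
    rw [map_inv, this]

/-- the representatives of the orbits of the stabiliser -/
def hRep (l : ℕ) : Fin 416 := ⟨Data.hRoot.getD l 0 % 416, Nat.mod_lt _ (by norm_num)⟩

theorem hRoot_facts : Data.hRoot.length = 3 ∧ Data.hRoot.all (fun r => Nat.blt r 416) = true ∧
    Data.hRoot.getD 0 0 = Data.z0 := by decide +kernel

theorem hRep_val {l : ℕ} (hl' : l < 3) : (hRep l).val = Data.hRoot.getD l 0 := by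
  have hlen : l < Data.hRoot.length := by rw [hRoot_facts.1]; exact hl'
  refine Nat.mod_eq_of_lt ?_
  rw [List.getD_eq_getElem _ _ hlen]
  simpa using List.all_eq_true.1 hRoot_facts.2.1 _ (List.getElem_mem hlen)

theorem hRoot_mem {r : ℕ} (hr : r ∈ Data.hRoot) :
    r < 416 ∧ hl r < 3 ∧ Data.hRoot.getD (hl r) 0 = r := by
  obtain ⟨m, hm, rfl⟩ := List.mem_iff_getElem.1 hr
  have hm3 : m < 3 := hRoot_facts.1 ▸ hm
  have e := Nat.eq_of_beq_eq_true (of_allB h_labels.2.1 m hm3)
  rw [List.getD_eq_getElem _ _ hm] at e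
  refine ⟨by simpa using List.all_eq_true.1 hRoot_facts.2.1 _ (List.getElem_mem hm), by omega, ?_⟩
  rw [e, List.getD_eq_getElem _ _ hm]

theorem orbit_reach (i : Fin 416) : ∃ g : ↥(HH F), orbHom F g (hRep (hl i.val)) = i := by
  obtain ⟨hc, hall⟩ := h_cert
  have hmem : i.val ∈ Data.hCert.map Prod.fst := by simpa using of_allB hall i.val i.isLt
  obtain ⟨e, he, hei⟩ := List.mem_map.1 hmem
  have hQ := of_certOK (fun x => ∃ g : ↥(HH F), (orbHom F g (hRep (hl x))).val = x)
    (fun r hr => ⟨1, by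
      obtain ⟨-, h2, h3⟩ := hRoot_mem hr
      simpa [hRep_val h2] using h3⟩)
    (fun k hk x ⟨y, hy⟩ => ⟨hG ⟨k, hk⟩ * y, by
      have hx : x < 416 := hy ▸ (orbHom F y _).isLt
      have hlab := hl_hImg ⟨k, hk⟩ ⟨x, hx⟩
      simp only at hlab
      rw [hlab, map_mul, Equiv.Perm.mul_apply, orbHom_hG, hy]⟩)
    _ _ hc (fun x hx => absurd hx List.not_mem_nil) e he
  obtain ⟨g, hg⟩ := hQ
  rw [hei] at hg
  exact ⟨g, Fin.ext hg⟩

theorem orbit_iff (i j : Fin 416) : (∃ g : ↥(HH F), orbHom F g i = j) ↔ hl i.val = hl j.val := by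
  constructor
  · rintro ⟨g, rfl⟩; exact (hl_orbHom g i).symm
  · intro e
    obtain ⟨a, ha⟩ := orbit_reach (F := F) i
    obtain ⟨b, hb⟩ := orbit_reach (F := F) j
    refine ⟨b * a⁻¹, ?_⟩
    rw [map_mul, map_inv, Equiv.Perm.mul_apply]
    conv_lhs => rw [← ha]
    rw [← Equiv.Perm.mul_apply _ (orbHom F a), inv_mul_cancel, Equiv.Perm.one_apply, e, hb]

theorem hl_zS : hl zS.val = 0 := h_labels.2.2

variable (F) in
theorem isCoatom_HH : IsCoatom (HH F) := by
  refine isCoatom_stab setHom zS (fun i => hl i.val) hRep 3 (fun i _ => hl_lt i) ?_ ?_ ?_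
  · rw [Nat.card_congr (Equiv.subtypeUnivEquiv transitive), Nat.card_eq_fintype_card, Fintype.card_fin]
    norm_num
  · intro T hT i _
    obtain ⟨g, hg⟩ := orbit_reach (F := F) i
    have h := hT (g : ↥(chevG2.group F)) g.2 (hRep (hl i.val))
    rw [show setHom (g : ↥(chevG2.group F)) (hRep (hl i.val)) = i from hg] at h
    exact h
  · intro b hb hb0 hdvd
    have e0 : Nat.card {i : Fin 416 // ∃ g : ↥(chevG2.group F), setHom g zS = i} = 416 := by
      rw [Nat.card_congr (Equiv.subtypeUnivEquiv transitive), Nat.card_eq_fintype_card, Fintype.card_fin]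
    have e1 := card_countB (fun i => b.testBit (hl i))
      (fun i => (∃ g : ↥(chevG2.group F), setHom g zS = i) ∧ b.testBit (hl i.val) = true)
      (fun i => ⟨fun h => h.2, fun h => ⟨transitive i, h⟩⟩)
    rw [e0, e1] at hdvd ⊢
    have h := of_allB h_count b hb
    have hb0' : b.testBit 0 = true := by rw [← hl_zS]; exact hb0
    simp only [hb0', Bool.not_true, Bool.false_or, Bool.or_eq_true, Bool.not_eq_true'] at h
    rcases h with (h | h) | h
    · rw [Nat.mod_eq_zero_of_dvd hdvd] at h; simp at h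
    · exact Or.inl (Nat.eq_of_beq_eq_true h)
    · exact Or.inr (Nat.eq_of_beq_eq_true h)

/-- the product of a word in the stabilising elements -/
noncomputable def hW (w : List ℕ) : ↥(HH F) :=
  (w.map fun k => hG (F := F) ⟨k % 4, Nat.mod_lt _ (by norm_num)⟩).prod

theorem orbHom_hW : ∀ w : List ℕ, (∀ k ∈ w, k < 4) → ∀ i : Fin 416,
    (orbHom F (hW (F := F) w) i).val = evW 9 Data.hTab w i.val
  | [], _, i => by simp [hW, evW]
  | k :: w, h, i => by
    have hk : k % 4 = k := Nat.mod_eq_of_lt (h k List.mem_cons_self)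
    rw [hW, List.map_cons, List.prod_cons, map_mul, Equiv.Perm.mul_apply, orbHom_hG]
    have ih := orbHom_hW w (fun b hb => h b (List.mem_cons_of_mem _ hb)) i
    rw [hW] at ih
    rw [ih]
    simp only [hk]
    rfl

theorem coatom_of_subOK {l a : ℕ} {ws : List (List ℕ)} {tab : ℕ} {roots : List ℕ}
    {cert : List (ℕ × ℕ × ℕ)} (hok : subOK l a ws tab roots cert = true) :
    ∃ A : Fin 416, hl A.val = l ∧ IsCoatom (stab (orbHom F) A) := by
  simp only [subOK, Bool.and_eq_true, Nat.blt_eq] at hok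
  obtain ⟨⟨⟨⟨⟨⟨⟨⟨ha, hla⟩, hlab0⟩, hN⟩, hws⟩, hcov⟩, hroots⟩, hcert⟩, hcount⟩ := hok
  set A : Fin 416 := ⟨a, ha⟩ with hA
  have hla' : hl a = l := Nat.eq_of_beq_eq_true hla
  refine ⟨A, hla', ?_⟩
  have horb : ∀ i : Fin 416, (∃ g, orbHom F g A = i) ↔ hl i.val = l := fun i => by
    rw [orbit_iff]
    exact ⟨fun e => e.symm.trans hla', fun e => hla'.trans e.symm⟩
  have hcov' : ∀ i : Fin 416, hl i.val = l →
      fld 4 tab i.val < roots.length ∧ i.val ∈ cert.map Prod.fst := by
    intro i hi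
    have h := of_allB hcov i.val i.isLt
    rw [hi] at h
    simpa using h
  refine isCoatom_stab (orbHom F) A (fun i => fld 4 tab i.val)
    (fun m => ⟨roots.getD m 0 % 416, Nat.mod_lt _ (by norm_num)⟩) roots.length
    (fun i hi => (hcov' i ((horb i).1 hi)).1) ?_ ?_ ?_
  · rw [card_countB (fun i => Nat.beq (hl i) l) _ fun i => (horb i).trans ⟨fun e => by rw [e]; exact Nat.beq_refl l, Nat.eq_of_beq_eq_true⟩]
    exact hN
  · intro T hT i hi
    obtain ⟨hlt, hmem⟩ := hcov' i ((horb i).1 hi)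
    obtain ⟨e, he, hei⟩ := List.mem_map.1 hmem
    set rep : ℕ → Fin 416 := fun m => ⟨roots.getD m 0 % 416, Nat.mod_lt _ (by norm_num)⟩ with hrep
    have hQ := of_certOK
      (fun x => ∃ hx : x < 416, ((⟨x, hx⟩ : Fin 416) ∈ T ↔ rep (fld 4 tab x) ∈ T))
      (fun r hr => by
        obtain ⟨m, hm, rfl⟩ := List.mem_iff_getElem.1 hr
        have e' := of_allB hroots m hm
        simp only [Bool.and_eq_true, Nat.blt_eq, List.getD_eq_getElem _ _ hm] at e'
        obtain ⟨e₁, e₂⟩ := e'
        refine ⟨e₂, ?_⟩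
        simp only [Nat.eq_of_beq_eq_true e₁]
        rw [show rep m = ⟨roots[m], e₂⟩ from Fin.ext (by
          show roots.getD m 0 % 416 = _
          rw [List.getD_eq_getElem _ _ hm]; exact Nat.mod_eq_of_lt e₂)])
      (fun g hg x ⟨hx, hQx⟩ => by
        have hw := List.all_eq_true.1 hws _ (List.getElem_mem hg)
        simp only [Bool.and_eq_true] at hw
        have hsmall : ∀ k ∈ ws[g], k < 4 := fun k hk => by
          simpa using List.all_eq_true.1 hw.1.1 k hk
        simp only [List.getD_eq_getElem _ _ hg]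
        have hu : hW (F := F) ws[g] ∈ stab (orbHom F) A := by
          rw [mem_stab]
          exact Fin.ext ((orbHom_hW _ hsmall A).trans (Nat.eq_of_beq_eq_true hw.1.2))
        have hy : evW 9 Data.hTab ws[g] x < 416 :=
          orbHom_hW (F := F) _ hsmall ⟨x, hx⟩ ▸ (orbHom F _ _).isLt
        refine ⟨hy, ?_⟩
        have h := hT _ hu ⟨x, hx⟩
        have hlab := Nat.eq_of_beq_eq_true (of_allB hw.2 x hx)
        rw [show (⟨evW 9 Data.hTab ws[g] x, hy⟩ : Fin 416) = orbHom F (hW ws[g]) ⟨x, hx⟩ from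
          Fin.ext (orbHom_hW _ hsmall ⟨x, hx⟩).symm, h, hlab]
        exact hQx)
      _ _ hcert (fun x hx => absurd hx List.not_mem_nil) e he
    rw [hei] at hQ
    exact hQ.2
  · intro b hb hb0 hdvd
    have e0 := card_countB (fun i => Nat.beq (hl i) l) (fun i => ∃ g, orbHom F g A = i)
      fun i => (horb i).trans ⟨fun e => by rw [e]; exact Nat.beq_refl l, Nat.eq_of_beq_eq_true⟩
    have e1 := card_countB (fun i => Nat.beq (hl i) l && b.testBit (fld 4 tab i))
      (fun i => (∃ g, orbHom F g A = i) ∧ b.testBit (fld 4 tab i.val) = true)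
      (fun i => by
        rw [Bool.and_eq_true]
        exact and_congr_left' ((horb i).trans
          ⟨fun e => by rw [e]; exact Nat.beq_refl l, Nat.eq_of_beq_eq_true⟩))
    rw [e0, e1] at hdvd ⊢
    have h := of_allB hcount b hb
    have hb0' : b.testBit 0 = true := by
      rw [← Nat.eq_of_beq_eq_true hlab0]; exact hb0
    simp only [hb0', Bool.not_true, Bool.false_or, Bool.or_eq_true, Bool.not_eq_true'] at h
    rcases h with (h | h) | h
    · rw [Nat.mod_eq_zero_of_dvd hdvd] at h; simp at h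
    · exact Or.inl (Nat.eq_of_beq_eq_true h)
    · exact Or.inr (Nat.eq_of_beq_eq_true h)

theorem isCoatom_point (i : Fin 416) (hi : i ≠ zS) : IsCoatom (stab (orbHom F) i) := by
  have hfix : ∀ g : ↥(HH F), orbHom F g zS = zS := fun g => g.2
  have h0 : hl i.val ≠ 0 := fun e => hi <| by
    obtain ⟨g, hg⟩ := orbit_reach (F := F) i
    rw [← hg, e, show hRep 0 = zS from Fin.ext (by rw [hRep_val (by norm_num), hRoot_facts.2.2]; rfl)]
    exact hfix g
  have h3 := hl_lt i
  obtain ⟨A, hA, hco⟩ : ∃ A : Fin 416, hl A.val = hl i.val ∧ IsCoatom (stab (orbHom F) A) := by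
    rcases (by omega : hl i.val = 1 ∨ hl i.val = 2) with e | e <;> rw [e]
    exacts [coatom_of_subOK sub_check1, coatom_of_subOK sub_check2]
  obtain ⟨g, hg⟩ := (orbit_iff (F := F) A i).2 hA
  have e : stab (orbHom F) i = (MulAut.conj g).mapSubgroup (stab (orbHom F) A) := by
    ext y
    rw [MulEquiv.mapSubgroup_apply]; erw [Subgroup.mem_map_equiv]; rw [mem_stab, mem_stab, MulAut.conj_symm_apply,
      map_mul, map_mul, map_inv, Equiv.Perm.mul_apply, Equiv.Perm.mul_apply, hg,
      Equiv.Perm.inv_eq_iff_eq, hg]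
  rw [e]
  exact (OrderIso.isCoatom_iff _ _).2 hco

theorem inter_conj (x : ↥(chevG2.group F)) :
    ((HH F) ⊓ (HH F).map (MulAut.conj x).toMonoidHom).subgroupOf (HH F) =
      stab (orbHom F) (setHom x zS) := by
  ext y
  rw [Subgroup.mem_subgroupOf, Subgroup.mem_inf, mem_stab]
  constructor
  · rintro ⟨-, z, hz, e⟩
    show setHom (y : ↥(chevG2.group F)) (setHom x zS) = setHom x zS
    rw [← e, ← Equiv.Perm.mul_apply, ← map_mul]
    simp only [MulEquiv.coe_toMonoidHom, MulAut.conj_apply, inv_mul_cancel_right]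
    rw [map_mul, Equiv.Perm.mul_apply, show setHom z zS = zS from hz]
  · intro h
    refine ⟨y.2, x⁻¹ * y * x, ?_, ?_⟩
    · show setHom (x⁻¹ * (y : ↥(chevG2.group F)) * x) zS = zS
      rw [map_mul, map_mul, Equiv.Perm.mul_apply, Equiv.Perm.mul_apply,
        show setHom (y : ↥(chevG2.group F)) (setHom x zS) = setHom x zS from h, map_inv,
        ← Equiv.Perm.mul_apply _ (setHom x), inv_mul_cancel, Equiv.Perm.one_apply]
    · simp [mul_assoc]

omit hq in
theorem extremely_primitive (hF : Fintype.card F = 4) :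
    ∃ H : Subgroup ↥(chevG2.group F), IsCoatom H ∧ Cfsg.Spor.IsoJ2 H ∧
      ∀ x : ↥(chevG2.group F), x ∉ H →
        IsCoatom ((H ⊓ H.map (MulAut.conj x).toMonoidHom).subgroupOf H) := by
  obtain ⟨hq⟩ := exists_four hF
  refine ⟨HH F, isCoatom_HH F, isoJ2 F, fun x hx => ?_⟩
  rw [inter_conj x]
  exact isCoatom_point _ fun e => hx e

end CfsgLib.G2J2
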