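import Cfsg.Agent.Lib.Chev.G2J2.Codes
import Cfsg.Agent.Lib.Chev.Types
import Cfsg.Agent.Lib.Chev.Group

/-!
Scalar codes in a field of four elements, and generators of the group of type G2 over it.
-/

set_option autoImplicit false

namespace CfsgLib.G2J2

open Cfsg.Lie CfsgLib.Chev Matrix

/-- the data of a field of four elements -/
class Four (F : Type*) [Field F] [Fintype F] where
  omega : F
  card : Fintype.card F = 4
  sq : omega * omega = omega + 1
  two : (2 : F) = 0

variable {F : Type*} [Field F] [Fintype F]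

theorem exists_four (hF : Fintype.card F = 4) : Nonempty (Four F) := by
  classical
  have h2 : (2 : F) = 0 := by
    have h : ((Fintype.card F : ℕ) : F) = 0 := Nat.cast_card_eq_zero F
    rw [hF, show ((4 : ℕ) : F) = 2 * 2 by norm_num] at h
    exact mul_self_eq_zero.1 h
  obtain ⟨w, hw⟩ : ∃ w : F, w ∉ ({0, 1} : Finset F) := by
    by_contra! h
    have := Finset.card_le_card (s := (Finset.univ : Finset F)) fun x _ => h x
    rw [Finset.card_univ, hF] at this
    exact absurd (this.trans Finset.card_le_two) (by norm_num)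
  simp only [Finset.mem_insert, Finset.mem_singleton, not_or] at hw
  have h3 := FiniteField.pow_card_sub_one_eq_one w hw.1
  rw [hF] at h3
  have h : (w - 1) * (w * w + w + 1) = 0 := by linear_combination h3
  have h' := (mul_eq_zero.1 h).resolve_left (sub_ne_zero.2 hw.2)
  exact ⟨⟨w, hF, by linear_combination h' - (w + 1) * h2, h2⟩⟩

variable [hq : Four F]

/-- the field element of a code -/
def dec : ℕ → F
  | 1 => 1
  | 2 => hq.omega
  | 3 => hq.omega + 1
  | _ => 0

@[simp] theorem dec_zero : dec (F := F) 0 = 0 := rfl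
@[simp] theorem dec_one : dec (F := F) 1 = 1 := rfl
@[simp] theorem dec_two : dec (F := F) 2 = hq.omega := rfl
@[simp] theorem dec_three : dec (F := F) 3 = hq.omega + 1 := rfl

theorem fld_lt (w a i : ℕ) : fld w a i < 2 ^ w := Nat.mod_lt _ (Nat.two_pow_pos w)

theorem mc_lt (a b : ℕ) : mc a b < 4 := fld_lt 2 _ _

theorem dec_mc {a b : ℕ} (ha : a < 4) (hb : b < 4) : dec (F := F) (mc a b) = dec a * dec b := by
  have hs := hq.sq
  have h2 := hq.two
  interval_cases a <;> interval_cases b <;>
    simp [mc, fld] <;>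
    first
      | linear_combination hs
      | linear_combination (-1 : F) * hs
      | linear_combination (-1 : F) * hs - h2
      | linear_combination (-1 : F) * hs - hq.omega * h2
      | linear_combination (-1 : F) * hs - (hq.omega + 1) * h2

theorem dec_xor {a b : ℕ} (ha : a < 4) (hb : b < 4) : dec (F := F) (a ^^^ b) = dec a + dec b := by
  have h2 := hq.two
  interval_cases a <;> interval_cases b <;>
    simp <;>
    first
      | linear_combination (0 : F) * h2
      | linear_combination (-1 : F) * h2
      | linear_combination -hq.omega * h2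
      | linear_combination -(hq.omega + 1) * h2

theorem omega_ne_zero : hq.omega ≠ (0 : F) := fun e => by
  have := hq.sq
  rw [e] at this
  simp at this

theorem omega_ne_one : hq.omega ≠ (1 : F) := fun e => by
  have := hq.sq
  rw [e] at this
  have h : (1 : F) = 0 := by linear_combination (-1 : F) * this
  exact one_ne_zero h

theorem dec_inj {a b : ℕ} (ha : a < 4) (hb : b < 4) (e : dec (F := F) a = dec b) : a = b := by
  have h0 := omega_ne_zero (F := F)
  have h1 := omega_ne_one (F := F)
  have h2 := hq.two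
  have h3 : hq.omega + 1 ≠ (0 : F) := fun e => h1 (by linear_combination e - h2)
  have h4 : hq.omega + 1 ≠ (1 : F) := fun e => h0 (by linear_combination e)
  have h5 : hq.omega + 1 ≠ hq.omega := by simp
  interval_cases a <;> interval_cases b <;>
    simp_all [dec, eq_comm]

theorem exists_code (x : F) : ∃ a < 4, dec a = x := by
  have hb : Function.Bijective fun a : Fin 4 => dec (F := F) a.val :=
    (Fintype.bijective_iff_injective_and_card _).2
      ⟨fun a b e => Fin.ext (dec_inj a.isLt b.isLt e), by rw [Fintype.card_fin, hq.card]⟩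
  obtain ⟨a, rfl⟩ := hb.2 x
  exact ⟨a, a.isLt, rfl⟩

theorem dec_ic (n : ℤ) : dec (F := F) (ic n) = (n : F) := by
  have h2 := hq.two
  have hn : ∀ m : ℕ, (m : F) = dec (m % 2) := by
    intro m
    conv_lhs => rw [← Nat.mod_add_div m 2]
    rcases Nat.mod_two_eq_zero_or_one m with h | h <;> simp [h, h2]
  rcases Int.natAbs_eq n with e | e <;> rw [ic]
  · conv_rhs => rw [e]
    rw [Int.cast_natCast, hn]
  · conv_rhs => rw [e]
    rw [Int.cast_neg, Int.cast_natCast, hn]
    rcases Nat.mod_two_eq_zero_or_one n.natAbs with h | h <;> simp [h]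
    linear_combination h2

theorem ic_lt (n : ℤ) : ic n < 4 := lt_of_lt_of_le (Nat.mod_lt _ (by norm_num)) (by norm_num)

theorem pc_lt (t : ℕ) : ∀ k, pc t k < 4
  | 0 => by simp [pc]
  | k + 1 => mc_lt _ _

theorem dec_pc {t : ℕ} (ht : t < 4) : ∀ k, dec (F := F) (pc t k) = dec t ^ k
  | 0 => by simp [pc]
  | k + 1 => by rw [pc, dec_mc (pc_lt t k) ht, dec_pc ht k, pow_succ]

theorem xor_lt {a b : ℕ} (ha : a < 4) (hb : b < 4) : a ^^^ b < 4 :=
  Nat.xor_lt_two_pow (n := 2) ha hb

theorem xorL_lt : ∀ l : List ℕ, (∀ a ∈ l, a < 4) → xorL l < 4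
  | [], _ => by simp [xorL]
  | a :: l, h => xor_lt (h a List.mem_cons_self) (xorL_lt l fun b hb => h b (List.mem_cons_of_mem _ hb))

theorem dec_xorL : ∀ l : List ℕ, (∀ a ∈ l, a < 4) → dec (F := F) (xorL l) = (l.map dec).sum
  | [], _ => by simp [xorL]
  | a :: l, h => by
    rw [List.map_cons, List.sum_cons, ← dec_xorL l fun b hb => h b (List.mem_cons_of_mem _ hb)]
    exact dec_xor (h a List.mem_cons_self) (xorL_lt l fun b hb => h b (List.mem_cons_of_mem _ hb))

theorem neg_eq (x : F) : -x = x := by linear_combination (-x) * hq.two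

theorem xc_spec (r : Fin chevG2.nroots) {t : ℕ} (ht : t < 4) (row col : chevG2.Idx) :
    xc r t row col < 4 ∧ dec (F := F) (xc r t row col) = chevG2.xMat F r (dec t) row col := by
  rw [ChevalleyDatum.xMat, Matrix.of_apply]
  rcases col with i | s <;> rcases row with i' | u
  · simp only [xc]; split_ifs <;> simp
  · simp only [xc]; split_ifs
    · exact ⟨mc_lt _ _, by rw [dec_mc (ic_lt _) ht, dec_ic, neg_mul, neg_eq]⟩
    · simp
  · simp only [xc]; split_ifs
    · simp
    · exact ⟨mc_lt _ _, by rw [dec_mc (ic_lt _) ht, dec_ic]⟩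
    · simp
  · simp only [xc]; split_ifs
    all_goals first
      | (simp; done)
      | exact ⟨mc_lt _ _, by rw [dec_mc ht ht, neg_eq, sq]⟩
      | skip
    all_goals
      have hm : ∀ a ∈ (chevG2.chainCoeff r.val s.val u.val).map (fun km => mc (ic km.2) (pc t km.1)), a < 4 := by
        intro a ha
        obtain ⟨km, -, rfl⟩ := List.mem_map.1 ha
        exact mc_lt _ _
      refine ⟨xor_lt (by norm_num) (xorL_lt _ hm), ?_⟩
      rw [dec_xor (by norm_num) (xorL_lt _ hm), dec_xorL _ hm, List.map_map]
      congr 1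
      refine congrArg List.sum (List.map_congr_left fun km _ => ?_)
      rw [Function.comp_apply, dec_mc (ic_lt _) (pc_lt _ _), dec_ic, dec_pc ht]

/-- the generators -/
noncomputable def genG (g : Fin 8) : ↥(chevG2.group F) :=
  ⟨xG stdG2.good (genRoot g).val (dec (genCode g)), xG_mem_group stdG2.good _ _⟩

/-- the roots reached from a list by the simple reflections in some steps -/
noncomputable def reached : ℕ → List ℕ
  | 0 => [4, 5, 6, 7]
  | n + 1 => reached n ++ (reached n).map (auxG2.refl 0) ++ (reached n).map (auxG2.refl 1)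

theorem reached_all : (List.range 12).all (fun r => (reached 4).contains r) = true ∧
    (reached 4).all (fun r => decide (r < 12)) = true ∧
    (List.range 12).all (fun r => decide (auxG2.eta 0 r % 2 ≠ 0) && decide (auxG2.eta 1 r % 2 ≠ 0)) = true ∧
    chevG2.simple 0 = 7 ∧ chevG2.simple 1 = 6 ∧ chevG2.neg 7 = 4 ∧ chevG2.neg 6 = 5 := by
  decide +kernel

theorem gen_top : Subgroup.closure (Set.range (genG (F := F))) = ⊤ := by
  classical
  set K := Subgroup.closure (Set.range (genG (F := F))) with hK
  set K' := K.map (chevG2.group F).subtype with hK'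
  have hg : ∀ g, (genG (F := F) g : GL chevG2.Idx F) ∈ K' := fun g =>
    ⟨_, Subgroup.subset_closure ⟨g, rfl⟩, rfl⟩
  have hr : ∀ r ∈ [4, 5, 6, 7], ∀ t : F, xG stdG2.good r t ∈ K' := by
    intro r hr t
    obtain ⟨a, ha, rfl⟩ := exists_code t
    have h0 : ∀ g : Fin 8, (genRoot g).val = r → ∀ c, genCode g = c →
        xG stdG2.good r (dec (F := F) c) ∈ K' := by
      rintro g rfl c rfl; exact hg g
    have h12 : xG stdG2.good r (1 : F) ∈ K' ∧ xG stdG2.good r hq.omega ∈ K' := by
      simp only [List.mem_cons, List.not_mem_nil, or_false] at hr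
      rcases hr with rfl | rfl | rfl | rfl
      · exact ⟨h0 0 rfl 1 rfl, h0 1 rfl 2 rfl⟩
      · exact ⟨h0 2 rfl 1 rfl, h0 3 rfl 2 rfl⟩
      · exact ⟨h0 4 rfl 1 rfl, h0 5 rfl 2 rfl⟩
      · exact ⟨h0 6 rfl 1 rfl, h0 7 rfl 2 rfl⟩
    interval_cases a
    · rw [dec_zero, xG_zero]; exact one_mem _
    · exact h12.1
    · exact h12.2
    · rw [dec_three, ← xG_add]; exact mul_mem h12.2 h12.1
  obtain ⟨hall, hlt, heta, hs0, hs1, hn0, hn1⟩ := reached_all
  have hn : ∀ i < 2, nS F stdG2.good i ∈ K' := by
    intro i hi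
    rw [nS, nG]
    interval_cases i
    · rw [hs0, hn0]
      exact mul_mem (mul_mem (hr 7 (by simp) _) (hr 4 (by simp) _)) (hr 7 (by simp) _)
    · rw [hs1, hn1]
      exact mul_mem (mul_mem (hr 6 (by simp) _) (hr 5 (by simp) _)) (hr 6 (by simp) _)
  have hstep : ∀ n, (∀ r ∈ reached n, r < 12) → ∀ r ∈ reached n, ∀ t : F, xG stdG2.good r t ∈ K' := by
    intro n
    induction n with
    | zero => exact fun _ => hr
    | succ n ih =>
      intro hb r hr' t
      have hb' : ∀ r ∈ reached n, r < 12 := fun r h => hb r (by simp [reached, h])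
      have conj : ∀ i < 2, ∀ s ∈ reached n, xG stdG2.good (auxG2.refl i s) t ∈ K' := by
        intro i hi s hs
        have h := nS_conj_xG stdG2.good (F := F) (i := i) hi (hb' s hs) t
        have he : ((auxG2.eta i s : ℤ) : F) = 1 := by
          have := List.all_eq_true.1 heta s (List.mem_range.2 (hb' s hs))
          simp only [Bool.and_eq_true, decide_eq_true_eq] at this
          have hodd : ic (auxG2.eta i s) = 1 := by
            rw [ic]
            interval_cases i
            · omega
            · omega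
          rw [← dec_ic, hodd, dec_one]
        rw [he, one_mul] at h
        rw [← h]
        exact mul_mem (mul_mem (hn i hi) (ih hb' s hs t)) (inv_mem (hn i hi))
      simp only [reached, List.mem_append, List.mem_map] at hr'
      rcases hr' with (h | ⟨s, hs, rfl⟩) | ⟨s, hs, rfl⟩
      exacts [ih hb' r h t, conj 0 (by norm_num) s hs, conj 1 (by norm_num) s hs]
  have hle : chevG2.group F ≤ K' := by
    rw [group_eq stdG2.good, Subgroup.closure_le]
    rintro _ ⟨r, t, hr', rfl⟩
    exact hstep 4 (fun s hs => by simpa using List.all_eq_true.1 hlt s hs) r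
      (by simpa using List.all_eq_true.1 hall r (List.mem_range.2 hr')) t
  rw [eq_top_iff]
  intro x _
  obtain ⟨y, hy, e⟩ := hle x.2
  exact (Subtype.ext e : y = x) ▸ hy

end CfsgLib.G2J2
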