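import Cfsg.Agent.Lib.Chev.G2J2.Matrices
import Cfsg.Agent.Lib.Chev.G2J2.ChkPoint
import Cfsg.Agent.Lib.Chev.G2J2.Induced

/-!
The group of type G2 over four elements permutes 4095 long root vectors.
-/

set_option autoImplicit false

namespace CfsgLib.G2J2

open Cfsg.Lie CfsgLib.Chev Matrix

variable {F : Type*} [Field F] [Fintype F] [hq : Four F]

theorem fld_xor (w a b i : ℕ) : fld w (a ^^^ b) i = fld w a i ^^^ fld w b i := by
  refine Nat.eq_of_testBit_eq fun j => ?_
  simp only [fld, Nat.testBit_xor, Nat.testBit_mod_two_pow, Nat.testBit_shiftRight]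
  cases decide (j < w) <;> simp

theorem fld_xorL (w i : ℕ) : ∀ l : List ℕ, fld w (xorL l) i = xorL (l.map fun a => fld w a i)
  | [] => by simp [xorL, fld]
  | a :: l => by
    rw [List.map_cons]
    show fld w (a ^^^ xorL l) i = fld w a i ^^^ xorL (l.map fun a => fld w a i)
    rw [fld_xor, fld_xorL w i l]

theorem cidx_lt (x : chevG2.Idx) : cidx x < 14 := by
  rcases x with i | r
  · have h : i.val < 2 := i.isLt
    show i.val < 14; omega
  · have h : r.val < 12 := r.isLt
    show 2 + r.val < 14; omega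

theorem cidx_surj {n : ℕ} (hn : n < 14) : ∃ x : chevG2.Idx, cidx x = n := by
  by_cases h : n < 2
  · exact ⟨Sum.inl ⟨n, h⟩, rfl⟩
  · exact ⟨Sum.inr ⟨n - 2, by show n - 2 < 12; omega⟩, by show 2 + (n - 2) = n; omega⟩

theorem sum_cidx (f : ℕ → F) : ((List.range 14).map f).sum = ∑ x : chevG2.Idx, f (cidx x) := by
  rw [Fintype.sum_sum_type]
  show _ = (∑ i : Fin 2, f i.val) + ∑ r : Fin 12, f (2 + r.val)
  simp [List.range_succ, Fin.sum_univ_succ]
  ring

/-- the vector of a code -/
def decV (v : ℕ) : chevG2.Idx → F := fun x => dec (fld 2 v (cidx x))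

theorem decV_inj {v w : ℕ} (hv : v < 2 ^ 28) (hw : w < 2 ^ 28) (e : decV (F := F) v = decV w) : v = w := by
  refine Nat.eq_of_testBit_eq fun j => ?_
  by_cases hj : j < 28
  · obtain ⟨x, hx⟩ := cidx_surj (n := j / 2) (by omega)
    have h := dec_inj (fld_lt 2 v _) (fld_lt 2 w _) (congrFun e x)
    have h' := congrArg (fun a => a.testBit (j % 2)) h
    simp only [fld, hx, Nat.testBit_mod_two_pow, Nat.testBit_shiftRight, Nat.mod_lt j (by norm_num : 2 > 0),
      decide_true, Bool.true_and] at h'
    rwa [Nat.div_add_mod] at h'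
  · rw [Nat.testBit_lt_two_pow (hv.trans_le (Nat.pow_le_pow_right (by norm_num) (by omega))),
      Nat.testBit_lt_two_pow (hw.trans_le (Nat.pow_le_pow_right (by norm_num) (by omega)))]

theorem mulv_eq (C : List (List ℕ)) (v : ℕ) :
    mulv C v = xorL ((List.range 14).map fun c => (C.getD c []).getD (fld 2 v c) 0) := by
  rw [mulv, xorL, List.foldr_map]

theorem gen_mulVec (g : Fin 8) (v : ℕ) :
    (((genG (F := F) g : ↥(chevG2.group F)) : GL chevG2.Idx F) : Matrix chevG2.Idx chevG2.Idx F) *ᵥ decV v =
      decV (mulv (Data.colTab.getD g.val []) v) := by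
  funext row
  have hc : genCode g < 4 := Nat.mod_lt _ (by norm_num)
  rw [genG]
  simp only [decV]
  rw [mulv_eq, fld_xorL, List.map_map, dec_xorL _ (by
      intro a ha
      obtain ⟨c, -, rfl⟩ := List.mem_map.1 ha
      exact fld_lt 2 _ _), List.map_map,
    sum_cidx (F := F)]
  rw [Matrix.mulVec, dotProduct]
  refine Finset.sum_congr rfl fun col _ => ?_
  have h := Nat.eq_of_beq_eq_true (col_check g row col ⟨fld 2 v (cidx col), fld_lt 2 _ _⟩)
  simp only [Function.comp_apply]
  obtain ⟨hlt, he⟩ := xc_spec (F := F) (genRoot g) hc row col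
  rw [h, dec_mc hlt (fld_lt 2 _ _), he]
  have hx : ((xG stdG2.good (genRoot g).val (dec (genCode g)) : GL chevG2.Idx F) :
      Matrix chevG2.Idx chevG2.Idx F) = chevG2.xMat F (genRoot g) (dec (genCode g)) := by
    rw [xG_val]
    simp [ChevalleyDatum.x, (genRoot g).isLt]
  rw [hx]
  rfl

/-- the group acting on column vectors -/
noncomputable def vecHom : ↥(chevG2.group F) →* Equiv.Perm (chevG2.Idx → F) where
  toFun g :=
    { toFun := fun v => ((g : GL chevG2.Idx F) : Matrix chevG2.Idx chevG2.Idx F) *ᵥ v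
      invFun := fun v => (((g : GL chevG2.Idx F)⁻¹ : GL chevG2.Idx F) : Matrix chevG2.Idx chevG2.Idx F) *ᵥ v
      left_inv := fun v => by simp [Matrix.mulVec_mulVec]
      right_inv := fun v => by simp [Matrix.mulVec_mulVec] }
  map_one' := by ext v : 1; simp
  map_mul' a b := by ext v : 1; simp [Matrix.mulVec_mulVec]

/-- the root vector of a point -/
def pVec (p : Fin 4095) : chevG2.Idx → F := decV (vget p.val)

theorem vget_lt (k : ℕ) : vget k < 2 ^ 28 := fld_lt 28 _ _

theorem vget_mono : ∀ {i j : ℕ}, i < j → j < 4095 → vget i < vget j := by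
  intro i j hij
  induction j, hij using Nat.le_induction with
  | base => intro hj; exact by simpa using of_allB point_increasing i (by omega)
  | succ j hij ih =>
    intro hj
    have h := of_allB point_increasing j (by omega)
    simp only [Nat.blt_eq] at h
    exact (ih (by omega)).trans h

theorem pVec_inj : Function.Injective (pVec (F := F)) := by
  intro p q e
  have h := decV_inj (vget_lt _) (vget_lt _) e
  rcases Nat.lt_trichotomy p.val q.val with hl | hl | hl
  · exact absurd h (vget_mono hl q.isLt).ne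
  · exact Fin.ext hl
  · exact absurd h (vget_mono hl p.isLt).ne'

theorem pImg_lt {g k : ℕ} (hg : g < 8) (hk : k < 4095) : pImg g k < 4095 := by
  have h := of_allB (of_allB point_check g hg) k hk
  simp only [Bool.and_eq_true, Nat.blt_eq] at h
  exact h.2

theorem gen_point (g : Fin 8) (p : Fin 4095) :
    vecHom (genG (F := F) g) (pVec p) = pVec ⟨pImg g p, pImg_lt g.isLt p.isLt⟩ := by
  have h := of_allB (of_allB point_check g.val g.isLt) p.val p.isLt
  simp only [Bool.and_eq_true] at h
  show _ *ᵥ decV _ = decV _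
  rw [gen_mulVec, Nat.eq_of_beq_eq_true h.1]

theorem point_inv : ∀ (g : ↥(chevG2.group F)) (p : Fin 4095), ∃ q, vecHom g (pVec p) = pVec q :=
  exists_image vecHom pVec_inj gen_top (by rintro _ ⟨g, rfl⟩ p; exact ⟨_, gen_point g p⟩)

/-- the action on the root vectors -/
noncomputable def pntHom : ↥(chevG2.group F) →* Equiv.Perm (Fin 4095) :=
  indHom vecHom pVec_inj point_inv

theorem pntHom_spec (g : ↥(chevG2.group F)) (p : Fin 4095) :
    vecHom g (pVec p) = pVec (pntHom g p) := indHom_spec _ _ _ g p

theorem pntHom_gen (g : Fin 8) (p : Fin 4095) :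
    (pntHom (genG (F := F) g) p).val = pImg g p := by
  rw [pntHom, indHom_eq vecHom pVec_inj point_inv (gen_point g p)]

end CfsgLib.G2J2
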