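import Cfsg.Agent.Lib.Chev.G2J2.Points
import Cfsg.Agent.Lib.Chev.G2J2.ChkSet

/-!
The group of type G2 over four elements permutes 416 sets of 315 root vectors.
-/

set_option autoImplicit false

namespace CfsgLib.G2J2

open Cfsg.Lie

variable {F : Type*} [Field F] [Fintype F] [hq : Four F]

/-- a set of root vectors -/
def rSet (i : Fin 416) : Set (Fin 4095) := {p | (sMask i.val).testBit p.val = true}

theorem sElem_lt {i k : ℕ} (hi : i < 416) (hk : k < 315) : sElem i k < 4095 := by
  have h := of_allB set_self i hi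
  simp only [Bool.and_eq_true] at h
  simpa using of_allB h.2 k hk

theorem mem_rSet {i : Fin 416} {p : Fin 4095} : p ∈ rSet i ↔ ∃ k < 315, sElem i.val k = p.val := by
  have h := of_allB set_self i.val i.isLt
  simp only [Bool.and_eq_true] at h
  rw [rSet, Set.mem_setOf_eq, ← Nat.eq_of_beq_eq_true h.1, testBit_maskOf]

theorem sMask_mono : ∀ {i j : ℕ}, i < j → j < 416 → sMask i < sMask j := by
  intro i j hij
  induction j, hij using Nat.le_induction with
  | base => intro hj; exact by simpa using of_allB set_increasing i (by omega)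
  | succ j hij ih =>
    intro hj
    have h := of_allB set_increasing j (by omega)
    simp only [Nat.blt_eq] at h
    exact (ih (by omega)).trans h

theorem rSet_inj : Function.Injective rSet := by
  intro i j e
  have hb : ∀ n, ∀ k : Fin 416, (sMask k.val).testBit n = true → n < 4095 := by
    intro n k hn
    have h := of_allB set_self k.val k.isLt
    simp only [Bool.and_eq_true] at h
    rw [← Nat.eq_of_beq_eq_true h.1, testBit_maskOf] at hn
    obtain ⟨m, hm, rfl⟩ := hn
    exact sElem_lt k.isLt hm
  have h : sMask i.val = sMask j.val := Nat.eq_of_testBit_eq fun n => Bool.eq_iff_iff.2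
    ⟨fun hn => (Set.ext_iff.1 e ⟨n, hb n i hn⟩).1 hn, fun hn => (Set.ext_iff.1 e ⟨n, hb n j hn⟩).2 hn⟩
  rcases Nat.lt_trichotomy i.val j.val with hl | hl | hl
  · exact absurd h (sMask_mono hl j.isLt).ne
  · exact Fin.ext hl
  · exact absurd h (sMask_mono hl i.isLt).ne'

/-- the action on sets of root vectors -/
noncomputable def subsetHom : ↥(chevG2.group F) →* Equiv.Perm (Set (Fin 4095)) where
  toFun g := Equiv.Set.congr (pntHom g)
  map_one' := by ext s : 1; simp
  map_mul' a b := by ext s : 1; simp [Set.image_image]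

theorem subsetHom_apply (g : ↥(chevG2.group F)) (s : Set (Fin 4095)) :
    subsetHom g s = pntHom g '' s := rfl

theorem sImg_lt {g i : ℕ} (hg : g < 8) (hi : i < 416) : sImg g i < 416 := by
  have h := of_allB (of_allB set_check g hg) i hi
  simp only [Bool.and_eq_true, Nat.blt_eq] at h
  exact h.2

theorem gen_set (g : Fin 8) (i : Fin 416) :
    subsetHom (genG (F := F) g) (rSet i) = rSet ⟨sImg g i, sImg_lt g.isLt i.isLt⟩ := by
  have h := of_allB (of_allB set_check g.val g.isLt) i.val i.isLt
  simp only [Bool.and_eq_true] at h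
  rw [subsetHom_apply]
  ext q
  rw [Set.mem_image]
  show _ ↔ (sMask (sImg g i)).testBit q.val = true
  rw [← Nat.eq_of_beq_eq_true h.1, testBit_maskOf]
  constructor
  · rintro ⟨p, hp, rfl⟩
    obtain ⟨k, hk, e⟩ := mem_rSet.1 hp
    exact ⟨k, hk, by rw [e, pntHom_gen]⟩
  · rintro ⟨k, hk, e⟩
    refine ⟨⟨sElem i k, sElem_lt i.isLt hk⟩, mem_rSet.2 ⟨k, hk, rfl⟩, ?_⟩
    exact Fin.ext (by rw [pntHom_gen]; exact e)

theorem set_inv : ∀ (g : ↥(chevG2.group F)) (i : Fin 416), ∃ j, subsetHom g (rSet i) = rSet j :=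
  exists_image subsetHom rSet_inj gen_top (by rintro _ ⟨g, rfl⟩ i; exact ⟨_, gen_set g i⟩)

/-- the action on the sets -/
noncomputable def setHom : ↥(chevG2.group F) →* Equiv.Perm (Fin 416) :=
  indHom subsetHom rSet_inj set_inv

theorem setHom_spec (g : ↥(chevG2.group F)) (i : Fin 416) :
    pntHom g '' rSet i = rSet (setHom g i) :=
  (subsetHom_apply g (rSet i)).symm.trans (indHom_spec subsetHom rSet_inj set_inv g i)

theorem setHom_gen (g : Fin 8) (i : Fin 416) : (setHom (genG (F := F) g) i).val = sImg g i := by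
  rw [setHom, indHom_eq subsetHom rSet_inj set_inv (gen_set g i)]

end CfsgLib.G2J2
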