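import Cfsg.Agent.Lib.Chev.G2J2.Sets
import Cfsg.Agent.Lib.Chev.G2J2.ChkAct
import Cfsg.Agent.Lib.Chev.OrderTypes
import Cfsg.Agent.Lib.Chev.Orders
import Cfsg.Agent.Lib.Chev.Data.WeylCheckG2
import Cfsg.Agent.Lib.Spor.J2.Order

/-!
The stabiliser of a set is isomorphic to the Hall-Janko group.
-/

set_option autoImplicit false

namespace CfsgLib.G2J2

open Cfsg.Lie CfsgLib.Chev Matrix

variable {F : Type*} [Field F] [Fintype F] [hq : Four F]

/-- the product of a word in the generators -/
noncomputable def gW (w : List ℕ) : ↥(chevG2.group F) :=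
  (w.map fun g => genG (F := F) ⟨g % 8, Nat.mod_lt _ (by norm_num)⟩).prod

theorem setHom_gW : ∀ w : List ℕ, (∀ g ∈ w, g < 8) → ∀ i : Fin 416,
    (setHom (gW (F := F) w) i).val = evW 9 Data.setTab w i.val
  | [], _, i => by simp [gW, evW]
  | g :: w, h, i => by
    have hg : g % 8 = g := Nat.mod_eq_of_lt (h g List.mem_cons_self)
    rw [gW, List.map_cons, List.prod_cons, map_mul, Equiv.Perm.mul_apply, setHom_gen]
    have ih := setHom_gW w (fun b hb => h b (List.mem_cons_of_mem _ hb)) i
    rw [gW] at ih
    rw [ih]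
    simp only [hg]
    rfl

theorem pntHom_gW : ∀ w : List ℕ, (∀ g ∈ w, g < 8) → ∀ p : Fin 4095,
    (pntHom (gW (F := F) w) p).val = evW 12 Data.pntTab w p.val
  | [], _, p => by simp [gW, evW]
  | g :: w, h, p => by
    have hg : g % 8 = g := Nat.mod_eq_of_lt (h g List.mem_cons_self)
    rw [gW, List.map_cons, List.prod_cons, map_mul, Equiv.Perm.mul_apply, pntHom_gen]
    have ih := pntHom_gW w (fun b hb => h b (List.mem_cons_of_mem _ hb)) p
    rw [gW] at ih
    rw [ih]
    simp only [hg]
    rfl

theorem hWord_mem (k : Fin 4) : ∀ g ∈ Data.hWord.getD k.val [], g < 8 := by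
  intro g hg
  have hl : k.val < Data.hWord.length := by
    have : Data.hWord.length = 4 := rfl
    omega
  rw [List.getD_eq_getElem _ _ hl] at hg
  have h := List.all_eq_true.1 (List.all_eq_true.1 hWord_small _ (List.getElem_mem hl)) g hg
  simpa using h

/-- the base set -/
def zS : Fin 416 := ⟨Data.z0, by decide +kernel⟩

variable (F) in
/-- the stabiliser of the base set -/
noncomputable def HH : Subgroup ↥(chevG2.group F) := stab setHom zS

/-- the four elements of the stabiliser -/
noncomputable def hG (k : Fin 4) : ↥(HH F) := ⟨gW (Data.hWord.getD k.val []), by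
  have h := of_allB h_sets k.val k.isLt
  simp only [Bool.and_eq_true] at h
  rw [HH, mem_stab]
  refine Fin.ext ?_
  rw [setHom_gW _ (hWord_mem k), Nat.eq_of_beq_eq_true (of_allB h.2 zS.val zS.isLt)]
  exact Nat.eq_of_beq_eq_true h.1⟩

/-- the root vector of a line -/
def lineP (j : Fin 315) : Fin 4095 := ⟨lget j.val, sElem_lt zS.isLt j.isLt⟩

theorem lineP_inj : Function.Injective lineP := by
  intro i j e
  have e' : lget i.val = lget j.val := congrArg Fin.val e
  rcases Nat.lt_trichotomy i.val j.val with hl | hl | hl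
  · have h := of_allB (of_allB line_distinct j.val j.isLt) i.val hl
    simp [e'] at h
  · exact Fin.ext hl
  · have h := of_allB (of_allB line_distinct i.val i.isLt) j.val hl
    simp [e'] at h

theorem rSet_base : rSet zS = Set.range lineP := by
  ext p
  rw [mem_rSet]
  exact ⟨fun ⟨k, hk, e⟩ => ⟨⟨k, hk⟩, Fin.ext e⟩, fun ⟨j, e⟩ => ⟨j.val, j.isLt, congrArg Fin.val e⟩⟩

theorem line_inv (g : ↥(HH F)) (j : Fin 315) :
    ∃ i, (pntHom.comp (HH F).subtype) g (lineP j) = lineP i := by
  have h : pntHom (g : ↥(chevG2.group F)) '' rSet zS = rSet zS := by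
    rw [setHom_spec, show setHom (g : ↥(chevG2.group F)) zS = zS from g.2]
  have hm : pntHom (g : ↥(chevG2.group F)) (lineP j) ∈ rSet zS := by
    rw [← h]; exact ⟨_, by rw [rSet_base]; exact ⟨j, rfl⟩, rfl⟩
  rw [rSet_base] at hm
  obtain ⟨i, hi⟩ := hm
  exact ⟨i, hi.symm⟩

/-- the action of the stabiliser on its lines -/
noncomputable def lineHom : ↥(HH F) →* Equiv.Perm (Fin 315) :=
  indHom (pntHom.comp (HH F).subtype) lineP_inj line_inv

theorem lineHom_inj : Function.Injective (lineHom (F := F)) := by
  rw [injective_iff_map_eq_one]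
  intro g hg
  have hfix : ∀ j, ((((g : ↥(HH F)) : ↥(chevG2.group F)) : GL chevG2.Idx F) :
      Matrix chevG2.Idx chevG2.Idx F) *ᵥ decV (vget (lget j.val : ℕ)) = decV (vget (lget (j : Fin 315).val)) := by
    intro j
    have h := indHom_spec (pntHom.comp (HH F).subtype) lineP_inj line_inv g j
    rw [show indHom (pntHom.comp (HH F).subtype) lineP_inj line_inv g = 1 from hg,
      Equiv.Perm.one_apply] at h
    have h2 := pntHom_spec (g : ↥(chevG2.group F)) (lineP j)
    rw [show pntHom (g : ↥(chevG2.group F)) (lineP j) = lineP j from h] at h2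
    exact h2
  refine Subtype.ext (Subtype.ext (Units.ext ?_))
  ext row col
  simp only [Subgroup.coe_one, Units.val_one]
  set M := ((((g : ↥(HH F)) : ↥(chevG2.group F)) : GL chevG2.Idx F) :
      Matrix chevG2.Idx chevG2.Idx F)
  set L := Data.spanTab.getD (cidx col) [] with hL
  have hLs : ∀ e ∈ L, e.1 < 315 ∧ e.2 < 4 := by
    intro e he
    by_cases hl : cidx col < Data.spanTab.length
    · rw [hL, List.getD_eq_getElem _ _ hl] at he
      have h := List.all_eq_true.1 (List.all_eq_true.1 span_small _ (List.getElem_mem hl)) e he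
      simpa using h
    · rw [hL, List.getD_eq_default _ _ (by omega)] at he
      simp at he
  have hu : ∀ x, ((L.map fun e => dec (F := F) e.2 • decV (F := F) (vget (lget e.1))).sum) x =
      (Pi.single col (1 : F) : chevG2.Idx → F) x := by
    intro x
    have h := Nat.eq_of_beq_eq_true
      (of_allB (of_allB span_check (cidx col) (cidx_lt col)) (cidx x) (cidx_lt x))
    have hd := congrArg (dec (F := F)) h
    rw [dec_xorL _ (by
      intro a ha
      obtain ⟨e, -, rfl⟩ := List.mem_map.1 ha
      exact mc_lt _ _), List.map_map] at hd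
    rw [show ∀ l : List (chevG2.Idx → F), l.sum x = (l.map fun f => f x).sum from fun l => by
      induction l with
      | nil => rfl
      | cons a l ih => simp [ih], List.map_map]
    refine (Eq.trans ?_ hd).trans ?_
    · refine congrArg List.sum (List.map_congr_left fun e he => ?_)
      simp only [Function.comp_apply, Pi.smul_apply, smul_eq_mul, decV]
      rw [dec_mc (hLs e he).2 (fld_lt 2 _ _)]
    · by_cases hx : x = col
      · subst hx; simp
      · have : cidx x ≠ cidx col := fun e => hx (by
          rcases x with i | r <;> rcases col with i' | r' <;>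
            (have := e; simp only [cidx] at this)
          · exact congrArg Sum.inl (Fin.ext this)
          · exact absurd (show i.val < 2 from i.isLt) (by omega)
          · exact absurd (show i'.val < 2 from i'.isLt) (by omega)
          · exact congrArg Sum.inr (Fin.ext (by omega)))
        simp [hx, this]
  have key : ∀ L' : List (ℕ × ℕ), (∀ e ∈ L', e.1 < 315) →
      M *ᵥ (L'.map fun e => dec (F := F) e.2 • decV (F := F) (vget (lget e.1))).sum =
        (L'.map fun e => dec (F := F) e.2 • decV (F := F) (vget (lget e.1))).sum := by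
    intro L'
    induction L' with
    | nil => intro _; simp
    | cons a L' ih =>
      intro hl
      rw [List.map_cons, List.sum_cons, Matrix.mulVec_add, Matrix.mulVec_smul,
        hfix ⟨a.1, hl a List.mem_cons_self⟩, ih fun e he => hl e (List.mem_cons_of_mem _ he)]
  have h := key L fun e he => (hLs e he).1
  rw [funext hu] at h
  have h' := congrFun h row
  rw [Matrix.mulVec_single_one, Matrix.col_apply] at h'
  rw [h', Matrix.one_apply, Pi.single_apply]

variable (F) in
theorem card_group : Nat.card ↥(chevG2.group F) = 251596800 := by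
  have h := order_formula (F := F) stdG2 weylOKG2 smithG2 poinG2 hq.card
  have hd : (∏ i : Fin chevG2.rank, Nat.gcd ((![1, 1] : Fin 2 → ℕ) i) (4 - 1)) = 1 :=
    Finset.prod_eq_one fun (i : Fin 2) _ => by fin_cases i <;> simp
  rw [hd, one_mul] at h
  rw [h]
  rfl

theorem transitive (i : Fin 416) : ∃ g : ↥(chevG2.group F), setHom g zS = i := by
  obtain ⟨hc, hall⟩ := g_cert
  have hmem : i.val ∈ Data.gCert.map Prod.fst := by simpa using of_allB hall i.val i.isLt
  obtain ⟨e, he, hei⟩ := List.mem_map.1 hmem
  have hQ := of_certOK (fun x => ∃ g : ↥(chevG2.group F), (setHom g zS).val = x)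
    (fun r hr => ⟨1, by simp [List.mem_singleton.1 hr, zS]⟩)
    (fun g hg x ⟨y, hy⟩ => ⟨genG ⟨g, hg⟩ * y, by
      rw [map_mul, Equiv.Perm.mul_apply, setHom_gen, hy]⟩)
    _ _ hc (fun x hx => absurd hx List.not_mem_nil) e he
  obtain ⟨g, hg⟩ := hQ
  exact ⟨g, Fin.ext (hg.trans hei)⟩

variable (F) in
theorem card_HH : Nat.card ↥(HH F) = 604800 := by
  have hi : (HH F).index = 416 := by
    rw [HH, index_stab, Nat.card_congr (Equiv.subtypeUnivEquiv transitive), Nat.card_eq_fintype_card,
      Fintype.card_fin]
  have h := (HH F).card_mul_index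
  rw [hi, card_group F] at h
  omega

theorem lineHom_hG (k : Fin 4) : lineHom (F := F) (hG k) = CfsgLib.J2.toLines (CfsgLib.J2.gen k) := by
  refine Equiv.ext fun j => ?_
  have hrep := CfsgLib.J2.gen_rep k j
  have h := of_allB (of_allB h_lines k.val k.isLt) j.val j.isLt
  simp only [Bool.and_eq_true] at h
  refine indHom_eq _ _ _ (Fin.ext ?_)
  show (pntHom (gW (F := F) (Data.hWord.getD k.val [])) (lineP j)).val = lget _
  rw [pntHom_gW _ (hWord_mem k)]
  show evW 12 Data.pntTab _ (lget j.val) = _
  rw [Nat.eq_of_beq_eq_true h.1]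
  refine congrArg lget (Eq.trans ?_ hrep)
  fin_cases k <;> rfl

variable (F) in
theorem map_closure_hG :
    (Subgroup.closure (Set.range (hG (F := F)))).map lineHom = CfsgLib.J2.imgGen := by
  rw [MonoidHom.map_closure, CfsgLib.J2.imgGen, CfsgLib.J2.repSet_gens0, ← Set.range_comp]
  exact congrArg _ (congrArg Set.range (funext lineHom_hG))

variable (F) in
theorem range_lineHom : (lineHom (F := F)).range = CfsgLib.J2.imgGen := by
  refine (Subgroup.eq_of_le_of_card_ge ?_ ?_).symm
  · rw [← map_closure_hG F]; exact (MonoidHom.range_eq_map (lineHom (F := F))).symm ▸ Subgroup.map_mono le_top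
  · rw [CfsgLib.J2.chain_facts.2.1, ← Nat.card_congr (MonoidHom.ofInjective lineHom_inj).toEquiv,
      card_HH F]

variable (F) in
theorem hG_top : Subgroup.closure (Set.range (hG (F := F))) = ⊤ := by
  refine Subgroup.map_injective (lineHom_inj (F := F)) ?_
  rw [map_closure_hG F, ← MonoidHom.range_eq_map, range_lineHom F]

variable (F) in
theorem isoJ2 : Cfsg.Spor.IsoJ2 ↥(HH F) :=
  ⟨((MonoidHom.ofInjective lineHom_inj).trans (MulEquiv.subgroupCongr (range_lineHom F))).trans
    CfsgLib.J2.quotEquiv.symm⟩

end CfsgLib.G2J2
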